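import Groth.Agent.KoszLib.LimSys
import Groth.Agent.LocCohLib.Cech
import Groth.Agent.LocCohLib.LocalCohomology

/-! The localised family of a module, as a cohomological delta functor. -/

set_option autoImplicit false
universe u

open CategoryTheory Limits

namespace KoszLcLib

open KoszLib

variable {A : Type u} [CommRing A] {r : ℕ} (f : Fin r → A)

/-- The product indexed by a tuple. -/
def prodF {p : ℕ} (J : Fin p → Fin r) : A := ∏ a ∈ img J, f a

abbrev S {p : ℕ} (J : Fin p → Fin r) : Submonoid A := Submonoid.powers (prodF f J)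

/-- The localisations. -/
abbrev Q (M : Type u) [AddCommGroup M] [Module A M] (p : ℕ) (J : Fin p → Fin r) : Type u :=
  LocalizedModule (S f J) M

variable (M : Type u) [AddCommGroup M] [Module A M]

/-- A power of the product. -/
abbrev el (n : ℕ) {p : ℕ} (J : Fin p → Fin r) : S f J := ⟨prodF f J ^ n, n, rfl⟩

theorem face_mul {p : ℕ} (J : Fin (p + 1) → Fin r) (k : Fin (p + 1)) :
    prodF f (J ∘ k.succAbove) * W f (img J) (img (J ∘ k.succAbove)) = prodF f J := by
  rw [mul_comm, prodF, prodF, W]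
  exact Finset.prod_sdiff (img_comp_subset _ _)

theorem isUnit_face {p : ℕ} (J : Fin (p + 1) → Fin r) (k : Fin (p + 1)) (x : S f (J ∘ k.succAbove)) :
    IsUnit (algebraMap A (Module.End A (Q f M (p + 1) J)) (x : A)) := by
  obtain ⟨n, hn⟩ := x.2
  have h := IsLocalizedModule.map_units (LocalizedModule.mkLinearMap (S f J) M)
    (el f n J)
  rw [show ((el f n J : S f J) : A) = prodF f J ^ n from rfl, ← face_mul f J k, mul_pow, map_mul] at h
  rw [show (x : A) = prodF f (J ∘ k.succAbove) ^ n from hn.symm]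
  exact ((Commute.isUnit_mul_iff (Algebra.commute_algebraMap_left _ _)).1 h).1

/-- `x ↦ x / f_J ^ n`. -/
noncomputable def ψ (n : ℕ) {p : ℕ} (J : Fin p → Fin r) : M →ₗ[A] Q f M p J where
  toFun x := LocalizedModule.mk x (el f n J)
  map_add' x y := by
    rw [LocalizedModule.mk_add_mk, LocalizedModule.mk_eq]
    exact ⟨1, by simp only [one_smul, Submonoid.smul_def, smul_add, mul_smul]⟩
  map_smul' a x := (LocalizedModule.smul'_mk a _ _).symm

theorem smul_ψ (n : ℕ) {p : ℕ} (J : Fin p → Fin r) (x : M) :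
    prodF f J ^ n • ψ f M n J x = LocalizedModule.mk x 1 := by
  rw [← map_smul]
  exact LocalizedModule.mk_cancel (el f n J) x

/-- The restriction from a face. -/
noncomputable def rs {p : ℕ} (J : Fin (p + 1) → Fin r) (k : Fin (p + 1)) :
    Q f M p (J ∘ k.succAbove) →ₗ[A] Q f M (p + 1) J :=
  LocalizedModule.lift (S f (J ∘ k.succAbove)) (LocalizedModule.mkLinearMap (S f J) M)
    (isUnit_face f M J k)

theorem rs_mk_one {p : ℕ} (J : Fin (p + 1) → Fin r) (k : Fin (p + 1)) (x : M) :
    rs f M J k (LocalizedModule.mk x 1) = LocalizedModule.mk x 1 :=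
  LinearMap.congr_fun (LocalizedModule.lift_comp (S f (J ∘ k.succAbove))
    (LocalizedModule.mkLinearMap (S f J) M) (isUnit_face f M J k)) x

theorem rs_ψ {p : ℕ} (J : Fin (p + 1) → Fin r) (k : Fin (p + 1)) (n : ℕ) (x : M) :
    rs f M J k (ψ f M n (J ∘ k.succAbove) x) =
      ψ f M n J (W f (img J) (img (J ∘ k.succAbove)) ^ n • x) := by
  refine ((Module.End.isUnit_iff _).1 (isUnit_face f M J k (el f n (J ∘ k.succAbove)))).injective ?_
  show prodF f (J ∘ k.succAbove) ^ n • rs f M J k (ψ f M n (J ∘ k.succAbove) x) =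
    prodF f (J ∘ k.succAbove) ^ n • ψ f M n J (W f (img J) (img (J ∘ k.succAbove)) ^ n • x)
  rw [← map_smul, smul_ψ, rs_mk_one, map_smul, smul_smul, ← mul_pow, face_mul, smul_ψ]

/-- The localised family. -/
noncomputable def sys : LimSys f M (Q f M) where
  ψ n _ J := ψ f M n J
  rs J k := rs f M J k
  surj J y := by
    induction y using LocalizedModule.induction_on with
    | h x s =>
      obtain ⟨n, hn⟩ := s.2
      exact ⟨n, x, congrArg (LocalizedModule.mk x) (show el f n J = s from Subtype.ext hn)⟩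
  zero J n x h := by
    have h' : LocalizedModule.mk x (el f n J) = LocalizedModule.mk (0 : M) (1 : S f J) :=
      h.trans (LocalizedModule.zero_mk (S := S f J) 1).symm
    obtain ⟨⟨u, k, hk⟩, hu⟩ := LocalizedModule.mk_eq.1 h' 
    refine ⟨k, ?_⟩
    simp only [one_smul, smul_zero, Submonoid.smul_def] at hu
    rw [← hk] at hu
    exact hu
  trans J n k x := by
    show LocalizedModule.mk ((∏ a ∈ img J, f a) ^ k • x) (el f (n + k) J) =
      LocalizedModule.mk x (el f n J)
    refine LocalizedModule.mk_eq.2 ⟨1, ?_⟩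
    simp only [one_smul, Submonoid.smul_def, smul_smul, ← pow_add, prodF]
  res J k n x := rs_ψ f M J k n x

section Functor

variable {f} {M} {N : Type u} [AddCommGroup N] [Module A N]

/-- Functoriality in the module. -/
noncomputable def qmap (g : M →ₗ[A] N) (p : ℕ) (J : Fin p → Fin r) : Q f M p J →ₗ[A] Q f N p J :=
  IsLocalizedModule.map (S f J) (LocalizedModule.mkLinearMap (S f J) M)
    (LocalizedModule.mkLinearMap (S f J) N) g

theorem qmap_mk_one (g : M →ₗ[A] N) (p : ℕ) (J : Fin p → Fin r) (x : M) :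
    qmap (f := f) g p J (LocalizedModule.mk x 1) = LocalizedModule.mk (g x) 1 :=
  IsLocalizedModule.map_apply (S f J) (LocalizedModule.mkLinearMap (S f J) M)
    (LocalizedModule.mkLinearMap (S f J) N) g x

theorem qmap_rs (g : M →ₗ[A] N) {p : ℕ} (J : Fin (p + 1) → Fin r) (k : Fin (p + 1)) :
    (qmap g (p + 1) J).comp (rs f M J k) = (rs f N J k).comp (qmap g p (J ∘ k.succAbove)) := by
  refine IsLocalizedModule.ext (S f (J ∘ k.succAbove)) (LocalizedModule.mkLinearMap _ M)
    (isUnit_face f N J k) (LinearMap.ext fun x => ?_)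
  show qmap g (p + 1) J (rs f M J k (LocalizedModule.mk x 1)) =
    rs f N J k (qmap g p (J ∘ k.succAbove) (LocalizedModule.mk x 1))
  rw [rs_mk_one, qmap_mk_one, qmap_mk_one, rs_mk_one]

/-- Cochains. -/
noncomputable def cmap (g : M →ₗ[A] N) (p : ℕ) : (sys f M).CQ p →ₗ[A] (sys f N).CQ p :=
  LinearMap.pi fun J => (qmap g p J).comp (LinearMap.proj J)

theorem cmap_apply (g : M →ₗ[A] N) (p : ℕ) (c : (sys f M).CQ p) (J : Fin p → Fin r) :
    cmap g p c J = qmap g p J (c J) := rfl

theorem cmap_d (g : M →ₗ[A] N) (p : ℕ) :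
    ((sys f N).dQ p).comp (cmap g p) = (cmap g (p + 1)).comp ((sys f M).dQ p) := by
  refine LinearMap.ext fun c => funext fun J => ?_
  rw [LinearMap.comp_apply, LinearMap.comp_apply, cmap_apply, LimSys.dQ_apply, LimSys.dQ_apply, map_sum]
  refine Finset.sum_congr rfl fun k _ => ?_
  rw [map_smul]
  exact congrArg _ (LinearMap.congr_fun (qmap_rs g J k) _).symm

theorem dQ_dQ {Q' : ∀ p, (Fin p → Fin r) → Type u} [∀ p J, AddCommGroup (Q' p J)]
    [∀ p J, Module A (Q' p J)] (T : LimSys f M Q') (p : ℕ) (c : T.CQ p) :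
    T.dQ (p + 1) (T.dQ p c) = 0 := by
  obtain ⟨n, x, rfl⟩ := T.exists_Ω_eq c
  rw [← T.Ω_d, ← T.Ω_d, d_d, map_zero]

end Functor

/-- The terms. -/
noncomputable def X (M : ModuleCat.{u} A) : ℤ → ModuleCat.{u} A
  | Int.ofNat p => ModuleCat.of A ((sys f M).CQ p)
  | Int.negSucc _ => ModuleCat.of A PUnit

/-- The differentials. -/
noncomputable def dX (M : ModuleCat.{u} A) : ∀ i : ℤ, X f M i ⟶ X f M (i + 1)
  | Int.ofNat p => ModuleCat.ofHom ((sys f M).dQ p)
  | Int.negSucc _ => 0

theorem dX_dX (M : ModuleCat.{u} A) : ∀ i : ℤ, dX f M i ≫ dX f M (i + 1) = 0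
  | Int.ofNat p => by
    ext c : 2
    exact dQ_dQ (sys f M) p c
  | Int.negSucc _ => zero_comp

/-- Maps of terms. -/
noncomputable def mapX {M N : ModuleCat.{u} A} (g : M ⟶ N) : ∀ i : ℤ, X f M i ⟶ X f N i
  | Int.ofNat p => ModuleCat.ofHom (cmap g.hom p)
  | Int.negSucc _ => 0

theorem mapX_d {M N : ModuleCat.{u} A} (g : M ⟶ N) :
    ∀ i : ℤ, mapX f g i ≫ dX f N i = dX f M i ≫ mapX f g (i + 1)
  | Int.ofNat p => ModuleCat.hom_ext (cmap_d g.hom p)
  | Int.negSucc _ => comp_zero.trans zero_comp.symm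

theorem mapX_id (M : ModuleCat.{u} A) : ∀ i : ℤ, mapX f (𝟙 M) i = 𝟙 _
  | Int.ofNat p => by
    refine ModuleCat.hom_ext (LinearMap.ext fun (c : (sys f M).CQ p) => funext fun J => ?_)
    exact LinearMap.congr_fun (IsLocalizedModule.map_id (S f J) (LocalizedModule.mkLinearMap (S f J) M)) (c J)
  | Int.negSucc _ => ModuleCat.hom_ext (LinearMap.ext fun (_ : PUnit) => rfl)

theorem mapX_comp {M N P : ModuleCat.{u} A} (g : M ⟶ N) (g' : N ⟶ P) :
    ∀ i : ℤ, mapX f (g ≫ g') i = mapX f g i ≫ mapX f g' i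
  | Int.ofNat p => by
    refine ModuleCat.hom_ext (LinearMap.ext fun (c : (sys f M).CQ p) => funext fun J => ?_)
    exact LinearMap.congr_fun (IsLocalizedModule.map_comp' (S f J) (LocalizedModule.mkLinearMap (S f J) M)
      (LocalizedModule.mkLinearMap (S f J) N) (LocalizedModule.mkLinearMap (S f J) P) g.hom g'.hom) (c J)
  | Int.negSucc _ => zero_comp.symm

/-- The localised complex as a functor. -/
noncomputable def cxFun : ModuleCat.{u} A ⥤ CochainComplex (ModuleCat.{u} A) ℤ where
  obj M := CochainComplex.of (X f M) (dX f M) (dX_dX f M)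
  map {M N} g := CochainComplex.ofHom (mapX f g) fun i => by
    simp only [CochainComplex.of_d]; exact mapX_d f g i
  map_id M := HomologicalComplex.hom_ext _ _ (mapX_id f M)
  map_comp g g' := HomologicalComplex.hom_ext _ _ (mapX_comp f g g')

theorem mapX_zero (M N : ModuleCat.{u} A) : ∀ i : ℤ, mapX f (0 : M ⟶ N) i = 0
  | Int.ofNat p => by
    refine ModuleCat.hom_ext (LinearMap.ext fun (c : (sys f M).CQ p) => funext fun J => ?_)
    exact LinearMap.congr_fun (map_zero (IsLocalizedModule.map (S f J)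
      (LocalizedModule.mkLinearMap (S f J) M) (LocalizedModule.mkLinearMap (S f J) N))) (c J)
  | Int.negSucc _ => rfl

instance : (cxFun f).PreservesZeroMorphisms where
  map_zero M N := HomologicalComplex.hom_ext _ _ (mapX_zero f M N)

theorem shortExact_cx {T : ShortComplex (ModuleCat.{u} A)} (hT : T.ShortExact) :
    (T.map (cxFun f)).ShortExact := by
  have hinj : Function.Injective T.f.hom := (ModuleCat.mono_iff_injective _).1 hT.mono_f
  have hsurj : Function.Surjective T.g.hom := (ModuleCat.epi_iff_surjective _).1 hT.epi_g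
  have hex : Function.Exact T.f.hom T.g.hom := fun x =>
    ⟨fun hx => (ShortComplex.moduleCat_exact_iff _).1 hT.exact x hx,
      fun ⟨w, hw⟩ => hw ▸ ConcreteCategory.congr_hom T.zero w⟩
  refine HomologicalComplex.shortExact_of_degreewise_shortExact _ fun i => ?_
  cases i with
  | negSucc n =>
    exact
      { exact := (ShortComplex.moduleCat_exact_iff _).2 fun (x : PUnit) _ => ⟨(PUnit.unit : PUnit), rfl⟩
        mono_f := (ModuleCat.mono_iff_injective _).2 fun (a : PUnit) b _ => rfl
        epi_g := (ModuleCat.epi_iff_surjective _).2 fun (a : PUnit) => ⟨(PUnit.unit : PUnit), rfl⟩ }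
  | ofNat p =>
    have i' : ∀ J : Fin p → Fin r, Function.Injective (qmap (f := f) T.f.hom p J) := fun J =>
      IsLocalizedModule.map_injective (S f J) _ _ _ hinj
    have s' : ∀ J : Fin p → Fin r, Function.Surjective (qmap (f := f) T.g.hom p J) := fun J =>
      IsLocalizedModule.map_surjective (S f J) _ _ _ hsurj
    have e' : ∀ J : Fin p → Fin r,
        Function.Exact (qmap (f := f) T.f.hom p J) (qmap (f := f) T.g.hom p J) := fun J =>
      IsLocalizedModule.map_exact (S f J) _ _ _ _ _ hex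
    exact
      { exact := (ShortComplex.moduleCat_exact_iff _).2 fun (x : (sys f T.X₂).CQ p) hx => by
          choose y hy using fun J => (e' J (x J)).1 (congrFun hx J)
          exact ⟨(y : (sys f T.X₁).CQ p), funext hy⟩
        mono_f := (ModuleCat.mono_iff_injective _).2 fun (a : (sys f T.X₁).CQ p) b h =>
          funext fun J => i' J (congrFun h J)
        epi_g := (ModuleCat.epi_iff_surjective _).2 fun (y : (sys f T.X₃).CQ p) => by
          choose x hx using fun J => s' J (y J)
          exact ⟨(x : (sys f T.X₂).CQ p), funext hx⟩ }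

theorem isZero_X_negSucc (M : ModuleCat.{u} A) (n : ℕ) : IsZero (X f M (Int.negSucc n)) :=
  ModuleCat.isZero_of_subsingleton (ModuleCat.of A PUnit)

/-- The delta functor. -/
noncomputable def delta : LocCohLib.DeltaFun (ModuleCat.{u} A) (ModuleCat.{u} A) :=
  LocCohLib.DeltaFun.ofCxFunctor (cxFun f) (fun hT => shortExact_cx f hT) fun M =>
    (HomologicalComplex.exactAt_iff_isZero_homology _ _).1
      (ShortComplex.exact_of_isZero_X₂ _ (isZero_X_negSucc f M 0))

theorem d_nat (M : ModuleCat.{u} A) (p : ℕ) :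
    ((cxFun f).obj M).d (Int.ofNat p) (Int.ofNat (p + 1)) = ModuleCat.ofHom ((sys f M).dQ p) :=
  CochainComplex.of_d (X f M) (dX f M) (Int.ofNat p)

/-- The short complex computing the cohomology in degree `p`. -/
noncomputable def scNat (M : ModuleCat.{u} A) : ∀ _p : ℕ, ShortComplex (ModuleCat.{u} A)
  | 0 => ShortComplex.mk (0 : ModuleCat.of A PUnit ⟶ ModuleCat.of A ((sys f M).CQ 0))
      (ModuleCat.ofHom ((sys f M).dQ 0)) zero_comp
  | p + 1 => ShortComplex.mk (ModuleCat.ofHom ((sys f M).dQ p)) (ModuleCat.ofHom ((sys f M).dQ (p + 1)))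
      (ModuleCat.hom_ext (LinearMap.ext fun c => dQ_dQ (sys f M) p c))

/-- The cohomology through `scNat`. -/
noncomputable def scIso (M : ModuleCat.{u} A) : ∀ p : ℕ,
    ((cxFun f).obj M).homology (p : ℤ) ≅ (scNat f M p).homology
  | 0 => ((cxFun f).obj M).homologyIsoSc' (Int.negSucc 0) (Int.ofNat 0) (Int.ofNat 1)
        (CochainComplex.prev _ _) (CochainComplex.next _ _) ≪≫
      ShortComplex.homologyMapIso (ShortComplex.isoMk (Iso.refl _) (Iso.refl _) (Iso.refl _)
        (by
          refine (Category.id_comp _).trans (Eq.trans ?_ (Category.comp_id _).symm)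
          exact ((CochainComplex.of_d (X f M) (dX f M) (Int.negSucc 0)).trans rfl).symm)
        (by
          refine (Category.id_comp _).trans (Eq.trans ?_ (Category.comp_id _).symm)
          exact (d_nat f M 0).symm))
  | p + 1 => ((cxFun f).obj M).homologyIsoSc' (Int.ofNat p) (Int.ofNat (p + 1)) (Int.ofNat (p + 2))
        ((CochainComplex.prev ℤ _).trans (by simp)) ((CochainComplex.next ℤ _).trans (by simp; omega)) ≪≫
      ShortComplex.homologyMapIso (ShortComplex.isoMk
        (S₁ := ((cxFun f).obj M).sc' (Int.ofNat p) (Int.ofNat (p + 1)) (Int.ofNat (p + 2)))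
        (S₂ := scNat f M (p + 1)) (Iso.refl _) (Iso.refl _) (Iso.refl _)
        (by
          refine (Category.id_comp _).trans (Eq.trans ?_ (Category.comp_id _).symm)
          exact (d_nat f M p).symm)
        (by
          refine (Category.id_comp _).trans (Eq.trans ?_ (Category.comp_id _).symm)
          exact (d_nat f M (p + 1)).symm))

theorem range_toCycles (M : ModuleCat.{u} A) : ∀ p : ℕ, ∀ x : (scNat f M p).X₂,
    ∀ hx : x ∈ LinearMap.ker (scNat f M p).g.hom,
    (⟨x, hx⟩ : LinearMap.ker (scNat f M p).g.hom) ∈ LinearMap.range (scNat f M p).moduleCatToCycles ↔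
      ∃ w, (scNat f M p).f.hom w = x := fun _ x hx =>
  ⟨fun ⟨w, hw⟩ => ⟨w, congrArg Subtype.val hw⟩, fun ⟨w, hw⟩ => ⟨w, Subtype.ext hw⟩⟩

/-- Its cohomology. -/
noncomputable def homEquiv (M : ModuleCat.{u} A) : ∀ p : ℕ,
    (((cxFun f).obj M).homology (p : ℤ) : Type u) ≃ₗ[A] (sys f M).HQ p
  | 0 => (scIso f M 0 ≪≫ (scNat f M 0).moduleCatHomologyIso).toLinearEquiv ≪≫ₗ
      Submodule.quotEquivOfEq (LinearMap.range (scNat f M 0).moduleCatToCycles)
        (((sys f M).BQ 0).comap ((sys f M).ZQ 0).subtype) (by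
          ext ⟨x, hx⟩
          exact (range_toCycles f M 0 x hx).trans ⟨fun ⟨w, hw⟩ => hw.symm, fun h => ⟨(PUnit.unit : PUnit), h.symm⟩⟩)
  | p + 1 => (scIso f M (p + 1) ≪≫ (scNat f M (p + 1)).moduleCatHomologyIso).toLinearEquiv ≪≫ₗ
      Submodule.quotEquivOfEq (LinearMap.range (scNat f M (p + 1)).moduleCatToCycles)
        (((sys f M).BQ (p + 1)).comap ((sys f M).ZQ (p + 1)).subtype) (by
          ext ⟨x, hx⟩
          exact range_toCycles f M (p + 1) x hx)

/-- Colimits of Koszul cohomology, linearly. -/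
noncomputable def limEquiv (fs : List A) (M : ModuleCat.{u} A) (p : ℕ) :
    CohIII.koszulHLim fs M p ≃ₗ[A] (sys fs.get M).HQ p :=
  (Module.DirectLimit.congr (fun n => (powEquiv M n fs p).symm) fun n m h => by
      refine LinearMap.ext fun y => ?_
      obtain ⟨y, rfl⟩ := (powEquiv M n fs p).surjective y
      refine ((congr_arg (powEquiv M m fs p).symm (powEquiv_trH M h fs p y).symm).trans
        ((powEquiv M m fs p).symm_apply_apply _)).trans ?_
      exact congr_arg _ ((powEquiv M n fs p).symm_apply_apply y).symm).trans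
    (LinearEquiv.ofBijective ((sys fs.get M).toHQ p) ((sys fs.get M).toHQ_bijective p))

end KoszLcLib
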