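import Groth.Agent.KoszLcLib.Linear
import Groth.Agent.LocCohLib.NonVanishing
import Groth.Agent.LocCohLib.Finiteness
import Groth.Agent.QCohLib.AffineFinite
import Groth.Prelude.Def_Wider

/-! Cohomology of coherent modules on punctured spectra. -/

set_option autoImplicit false
universe u

open CategoryTheory CategoryTheory.Limits TopologicalSpace Opposite AlgebraicGeometry

namespace KoszLcLib

open KoszLib

variable {A : Type u} [CommRing A]

/-- The scalars on the punctured spectrum. -/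
noncomputable abbrev scal (I : Ideal A) : A →+* Γ((↑(LocCoh.puncturedOpen A I) : Scheme.{u}), ⊤) :=
  Coh.toGlobal ((↑(LocCoh.puncturedOpen A I) : Scheme.{u}) ↘ Spec (CommRingCat.of A))

theorem basicOpen_scal (I : Ideal A) (a : A) :
    (↑(LocCoh.puncturedOpen A I) : Scheme.{u}).basicOpen (scal I a) =
      (LocCoh.puncturedOpen A I).ι ⁻¹ᵁ (PrimeSpectrum.basicOpen a : (Spec (CommRingCat.of A)).Opens) := by
  refine Eq.trans ((LocCoh.puncturedOpen A I).ι.preimage_basicOpen_top
    ((Scheme.ΓSpecIso (CommRingCat.of A)).inv a)).symm ?_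
  exact congrArg (fun W => (LocCoh.puncturedOpen A I).ι ⁻¹ᵁ W)
    (AlgebraicGeometry.basicOpen_eq_of_affine (R := CommRingCat.of A) a)

theorem basicOpen_le (I : Ideal A) {a : A} (ha : a ∈ I) :
    (PrimeSpectrum.basicOpen a : (Spec (CommRingCat.of A)).Opens) ≤ LocCoh.puncturedOpen A I :=
  fun x hx hz => hx (hz ha)

theorem isAffineOpen_scal (I : Ideal A) {a : A} (ha : a ∈ I) :
    IsAffineOpen ((↑(LocCoh.puncturedOpen A I) : Scheme.{u}).basicOpen (scal I a)) := by
  rw [basicOpen_scal]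
  refine IsAffineOpen.preimage_of_isOpenImmersion ?_ _ ?_
  · exact (AlgebraicGeometry.basicOpen_eq_of_affine (R := CommRingCat.of A) a) ▸
      (isAffineOpen_top _).basicOpen _
  · rw [Scheme.Opens.opensRange_ι]
    exact basicOpen_le I ha

theorem iSup_scal (I : Ideal A) (fs : List A) (hI : Ideal.span {a | a ∈ fs} = I) :
    ⨆ i, Uf (fun i => scal I (fs.get i)) i = ⊤ := by
  refine Opens.ext (Set.eq_univ_of_forall fun x => ?_)
  rw [Opens.coe_iSup, Set.mem_iUnion]
  have hx : ¬ I ≤ ((LocCoh.puncturedOpen A I).ι x : PrimeSpectrum A).asIdeal := x.2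
  obtain ⟨a, ha, hax⟩ : ∃ a ∈ {a | a ∈ fs}, a ∉ ((LocCoh.puncturedOpen A I).ι x : PrimeSpectrum A).asIdeal :=
    Set.not_subset.1 fun hsub => hx (hI.symm.trans_le (Ideal.span_le.2 hsub))
  obtain ⟨i, rfl⟩ := List.get_of_mem ha
  refine ⟨⟨i⟩, ?_⟩
  show x ∈ (↑(LocCoh.puncturedOpen A I) : Scheme.{u}).basicOpen (scal I (fs.get i))
  rw [basicOpen_scal]
  exact hax

/-- Functions on a basic open of the punctured spectrum are fractions. -/
theorem exists_frac (I : Ideal A) {a : A} (ha : a ∈ I)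
    (r : Γ((↑(LocCoh.puncturedOpen A I) : Scheme.{u}),
      (↑(LocCoh.puncturedOpen A I) : Scheme.{u}).basicOpen (scal I a))) :
    ∃ (b : A) (k : ℕ), ρ _ (scal I a) ^ k * r = ρ _ (scal I b) := by
  let V : (Spec (CommRingCat.of A)).Opens :=
    (Spec (CommRingCat.of A)).basicOpen ((Scheme.ΓSpecIso (CommRingCat.of A)).inv a)
  have hV : V ≤ (LocCoh.puncturedOpen A I).ι.opensRange := by
    rw [Scheme.Opens.opensRange_ι, show V = (PrimeSpectrum.basicOpen a : (Spec (CommRingCat.of A)).Opens)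
      from AlgebraicGeometry.basicOpen_eq_of_affine (R := CommRingCat.of A) a]
    exact basicOpen_le I ha
  have := (LocCoh.puncturedOpen A I).ι.isIso_app V hV
  have hpre : (↑(LocCoh.puncturedOpen A I) : Scheme.{u}).basicOpen (scal I a) =
      (LocCoh.puncturedOpen A I).ι ⁻¹ᵁ V :=
    ((LocCoh.puncturedOpen A I).ι.preimage_basicOpen_top _).symm
  let φ := (LocCoh.puncturedOpen A I).ι.app V ≫
    (↑(LocCoh.puncturedOpen A I) : Scheme.{u}).presheaf.map (eqToHom hpre).op
  have hφ : Function.Surjective φ.hom :=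
    ((ConcreteCategory.isIso_iff_bijective φ).1 inferInstance).2
  have hnat : ∀ c : A, φ ((Spec (CommRingCat.of A)).presheaf.map (homOfLE (le_top : V ≤ ⊤)).op
      ((Scheme.ΓSpecIso (CommRingCat.of A)).inv c)) = ρ _ (scal I c) := by
    intro c
    refine (congrArg ((↑(LocCoh.puncturedOpen A I) : Scheme.{u}).presheaf.map (eqToHom hpre).op)
      congr($((LocCoh.puncturedOpen A I).ι.naturality (homOfLE (le_top : V ≤ ⊤)).op)
        ((Scheme.ΓSpecIso (CommRingCat.of A)).inv c))).trans ?_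
    exact QCohLib.ringMap_map' _ _ _
  obtain ⟨z, rfl⟩ := hφ r
  haveI := (isAffineOpen_top (Spec (CommRingCat.of A))).isLocalization_basicOpen
    ((Scheme.ΓSpecIso (CommRingCat.of A)).inv a)
  obtain ⟨⟨b', ⟨_, k, rfl⟩⟩, hb⟩ :=
    IsLocalization.surj (Submonoid.powers ((Scheme.ΓSpecIso (CommRingCat.of A)).inv a)) z
  refine ⟨(Scheme.ΓSpecIso (CommRingCat.of A)).hom b', k, ?_⟩
  rw [← hnat, ← hnat]
  have hb' : (Scheme.ΓSpecIso (CommRingCat.of A)).inv ((Scheme.ΓSpecIso (CommRingCat.of A)).hom b') = b' :=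
    Iso.hom_inv_id_apply _ _
  rw [hb']
  refine Eq.trans ?_ (congrArg φ.hom hb)
  refine (mul_comm _ _).trans (Eq.trans ?_ (map_mul φ.hom _ _).symm)
  exact congrArg (fun t => φ.hom z * t) ((map_pow _ _ _).symm.trans (congrArg φ.hom (map_pow _ _ _).symm))

variable [IsNoetherianRing A] (I : Ideal A)

/-- A finitely generated module of sections with torsion quotient. -/
theorem exists_finite_sections (fs : List A) (hI : Ideal.span {a | a ∈ fs} = I)
    (G : (↑(LocCoh.puncturedOpen A I) : Scheme.{u}).Modules) (hG : Coh.IsCoh G) :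
    ∃ M₀ : Submodule A (Res (scal I) Γ(G, ⊤)), M₀.FG ∧
      LocCoh.IsPowerTorsion I (Res (scal I) Γ(G, ⊤) ⧸ M₀) := by
  classical
  haveI : Coh.IsQCoh G := hG.1
  haveI : NoetherianSpace (↑(LocCoh.puncturedOpen A I) : Scheme.{u}) :=
    (LocCoh.puncturedOpen A I).ι.isOpenEmbedding.isInducing.noetherianSpace
  have hloc : ∀ a : A, QCohLib.LocalizingAt G (scal I a) := fun a =>
    QCohLib.localizingAt_of_qcqs G (W := ⊤) (by rw [Opens.coe_top]; exact isCompact_univ)
      (by rw [Opens.coe_top]; exact isQuasiSeparated_univ) _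
  have key : ∀ i : Fin fs.length, ∃ (T : Finset (Res (scal I) Γ(G, ⊤))),
      ∀ x : Res (scal I) Γ(G, ⊤), ∃ N : ℕ, fs.get i ^ N • x ∈ Submodule.span A (T : Set _) := by
    intro i
    have ha : fs.get i ∈ I := hI ▸ Ideal.subset_span (List.get_mem fs i)
    obtain ⟨s, hs⟩ := (QCohLib.finite_of_isFT (M := G) hG.2 (isAffineOpen_scal I ha)).fg_top
    choose n t₀ ht using fun y => (hloc (fs.get i)).exists_extend y
    let t : _ → Res (scal I) Γ(G, ⊤) := t₀
    refine ⟨s.image t, fun x => ?_⟩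
    set x' := G.presheaf.map (homOfLE (le_top : (↑(LocCoh.puncturedOpen A I) : Scheme.{u}).basicOpen
      (scal I (fs.get i)) ≤ ⊤)).op (show Γ(G, ⊤) from x) with hx'
    have hsm : ∀ (c : A) (e : ℕ) (w : Res (scal I) Γ(G, ⊤)),
        G.presheaf.map (homOfLE (le_top : ((↑(LocCoh.puncturedOpen A I) : Scheme.{u}).basicOpen (scal I (fs.get i))) ≤ ⊤)).op (show Γ(G, ⊤) from c ^ e • w) =
          ρ ((↑(LocCoh.puncturedOpen A I) : Scheme.{u}).basicOpen (scal I (fs.get i))) (scal I c) ^ e •
            G.presheaf.map (homOfLE (le_top : ((↑(LocCoh.puncturedOpen A I) : Scheme.{u}).basicOpen (scal I (fs.get i))) ≤ ⊤)).op (show Γ(G, ⊤) from w) := fun c e w =>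
      (Scheme.Modules.map_smul G _ _ _).trans (congrArg (fun z => z • _)
        ((congrArg (ρ ((↑(LocCoh.puncturedOpen A I) : Scheme.{u}).basicOpen (scal I (fs.get i)))) (map_pow (scal I) c e)).trans (map_pow _ _ _)))
    have main : ∀ y ∈ Submodule.span Γ((↑(LocCoh.puncturedOpen A I) : Scheme.{u}),
        (↑(LocCoh.puncturedOpen A I) : Scheme.{u}).basicOpen (scal I (fs.get i))) (↑s : Set Γ(G,
          (↑(LocCoh.puncturedOpen A I) : Scheme.{u}).basicOpen (scal I (fs.get i)))),
        ∃ (K : ℕ) (w : Res (scal I) Γ(G, ⊤)), w ∈ Submodule.span A (s.image t : Set _) ∧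
          G.presheaf.map (homOfLE (le_top : (↑(LocCoh.puncturedOpen A I) : Scheme.{u}).basicOpen (scal I (fs.get i)) ≤ ⊤)).op (show Γ(G, ⊤) from w) =
            ρ ((↑(LocCoh.puncturedOpen A I) : Scheme.{u}).basicOpen (scal I (fs.get i))) (scal I (fs.get i)) ^ K • y := by
      intro y hy
      induction hy using Submodule.span_induction with
      | mem y hy =>
        exact ⟨n y, t y, Submodule.subset_span (Finset.mem_coe.2 (Finset.mem_image_of_mem t hy)), ht y⟩
      | zero => exact ⟨0, 0, zero_mem _, (map_zero _).trans (smul_zero _).symm⟩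
      | add y y' _ _ h h' =>
        obtain ⟨K, w, hw, he⟩ := h
        obtain ⟨K', w', hw', he'⟩ := h'
        refine ⟨K + K', fs.get i ^ K' • w + fs.get i ^ K • w',
          add_mem (Submodule.smul_mem _ _ hw) (Submodule.smul_mem _ _ hw'), ?_⟩
        refine (map_add _ _ _).trans ?_
        rw [smul_add]
        congr 1
        · refine (hsm _ _ _).trans ?_
          rw [he, smul_smul, ← pow_add, Nat.add_comm]
        · refine (hsm _ _ _).trans ?_
          rw [he', smul_smul, ← pow_add]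
      | smul r y _ h =>
        obtain ⟨K, w, hw, he⟩ := h
        obtain ⟨b, k, hb⟩ := exists_frac I ha r
        refine ⟨K + k, b • w, Submodule.smul_mem _ _ hw, ?_⟩
        refine (Scheme.Modules.map_smul G _ _ _).trans ?_
        rw [he, smul_smul, smul_smul]
        refine congrArg (fun c => c • y) ?_
        refine (congrArg (fun c => c * _) hb.symm).trans ?_
        rw [pow_add]
        ring
    obtain ⟨K, w, hw, he⟩ := main x' (hs ▸ Submodule.mem_top)
    obtain ⟨k, hk⟩ := (hloc (fs.get i)).eq_zero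
      ((show Γ(G, ⊤) from fs.get i ^ K • x) - (show Γ(G, ⊤) from w)) (by
        rw [map_sub, he, sub_eq_zero]
        exact hsm _ _ _)
    refine ⟨k + K, ?_⟩
    have hk' : fs.get i ^ k • (fs.get i ^ K • x - w) = 0 := by
      refine Eq.trans ?_ hk
      refine congrArg (fun z : Γ((↑(LocCoh.puncturedOpen A I) : Scheme.{u}), ⊤) =>
        z • ((show Γ(G, ⊤) from fs.get i ^ K • x) - (show Γ(G, ⊤) from w))) ?_
      exact (map_pow (scal I) _ _).trans (congrArg (· ^ k) (ρ_top (scal I (fs.get i))).symm)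
    rw [smul_sub, sub_eq_zero, smul_smul, ← pow_add] at hk'
    rw [hk']
    exact Submodule.smul_mem _ _ hw
  choose T hT using key
  refine ⟨Submodule.span A ((Finset.univ.biUnion T : Finset _) : Set _), Submodule.fg_span (Finset.finite_toSet _), fun z => ?_⟩
  obtain ⟨x, rfl⟩ := Submodule.Quotient.mk_surjective _ z
  choose N hN using fun i => hT i x
  have hle : I ≤ ((Submodule.span A ((Finset.univ.biUnion T : Finset _) : Set _)).colon {x}).radical := by
    refine hI.symm.trans_le (Ideal.span_le.2 fun a ha => ?_)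
    obtain ⟨i, rfl⟩ := List.get_of_mem ha
    exact ⟨N i, Submodule.mem_colon_singleton.2 (Submodule.span_mono
      (Finset.coe_subset.2 (Finset.subset_biUnion_of_mem T (Finset.mem_univ i))) (hN i))⟩
  obtain ⟨m, hm⟩ := Ideal.exists_pow_le_of_le_radical_of_fg hle (IsNoetherian.noetherian I)
  refine ⟨m, fun a ha => ?_⟩
  rw [← Submodule.Quotient.mk_smul, Submodule.Quotient.mk_eq_zero]
  exact Submodule.mem_colon_singleton.1 (hm ha)

/-- Higher cohomology of a coherent module on the punctured spectrum is Artinian. -/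
theorem isArtinian_HH [IsLocalRing A]
    (G : (↑(LocCoh.puncturedOpen A (IsLocalRing.maximalIdeal A)) : Scheme.{u}).Modules)
    (hG : Coh.IsCoh G) (q : ℕ) :
    IsArtinian A (Coh.HH (↑(LocCoh.puncturedOpen A (IsLocalRing.maximalIdeal A)) : Scheme.{u}) G (q + 1)) := by
  haveI : Coh.IsQCoh G := hG.1
  haveI : NoetherianSpace (↑(LocCoh.puncturedOpen A (IsLocalRing.maximalIdeal A)) : Scheme.{u}) :=
    (LocCoh.puncturedOpen A (IsLocalRing.maximalIdeal A)).ι.isOpenEmbedding.isInducing.noetherianSpace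
  obtain ⟨fs, hfs⟩ := LocCohLib.exists_list_span (IsLocalRing.maximalIdeal A)
  obtain ⟨e, he⟩ := exists_linearEquiv G (scal (IsLocalRing.maximalIdeal A)) fs
    (fun i => isAffineOpen_scal (IsLocalRing.maximalIdeal A) (hfs ▸ Ideal.subset_span (List.get_mem fs i)))
    (iSup_scal (IsLocalRing.maximalIdeal A) fs hfs) q
  obtain ⟨l⟩ := nonempty_H_equiv fs (IsLocalRing.maximalIdeal A) hfs (Res (scal (IsLocalRing.maximalIdeal A)) Γ(G, ⊤)) (q + 2)
  let e' : Coh.HH (↑(LocCoh.puncturedOpen A (IsLocalRing.maximalIdeal A)) : Scheme.{u}) G (q + 1) ≃ₗ[A]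
      CohIII.koszulHLim fs (ModuleCat.of A (Res (scal (IsLocalRing.maximalIdeal A)) Γ(G, ⊤))) (q + 2) :=
    { e with map_smul' := fun a x => he a x }
  obtain ⟨M₀, hfg, htor⟩ := exists_finite_sections (IsLocalRing.maximalIdeal A) fs hfs G hG
  haveI : Module.Finite A M₀ := Module.Finite.iff_fg.2 hfg
  haveI := LocCohLib.isArtinian_H (R := A) (q + 2) M₀
  haveI := LocCohLib.subsingleton_H_of_torsion (IsLocalRing.maximalIdeal A) _ htor (q + 2) (by omega)
  have hs : Function.Surjective (LocCohLib.Hf (IsLocalRing.maximalIdeal A) (q + 2) M₀.subtype) := fun y =>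
    ((LocCohLib.exact_Hf M₀.injective_subtype (LinearMap.exact_subtype_mkQ M₀) M₀.mkQ_surjective (q + 2)) y).1
      (Subsingleton.elim _ _)
  haveI := isArtinian_of_surjective (LocCoh.H (IsLocalRing.maximalIdeal A) (q + 2) M₀) _ hs
  exact ((e'.trans l.symm).isArtinian_iff).2 inferInstance

end KoszLcLib
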