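import Groth.Agent.KoszLcLib.Basic
import Groth.Agent.LocCohLib.Compare
import Groth.Agent.S5169

/-! Local cohomology as a colimit of Koszul cohomology. -/

set_option autoImplicit false
universe u

open CategoryTheory Limits

namespace KoszLcLib

open KoszLib HomologicalComplex

variable {A : Type u} [CommRing A] (fs : List A)

theorem effaceable [IsNoetherianRing A] : (delta (A := A) fs.get).Effaceable := fun E hE i => by
  have : Module.Injective A E := Module.injective_module_of_injective_object (R := A) (M := E)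
    (inj := hE)
  have hs : Subsingleton (CohIII.koszulHLim fs E (i + 1)) :=
    Groth.Agent.S5169.result A fs E this (i + 1) (by omega)
  have hs' : Subsingleton (((cxFun fs.get).obj E).homology ((i + 1 : ℕ) : ℤ) : Type u) :=
    ((homEquiv fs.get E (i + 1)).trans (limEquiv fs E (i + 1)).symm).toEquiv.subsingleton
  have : Subsingleton (((delta fs.get).F (i + 1)).obj E : Type u) := hs'
  exact ModuleCat.isZero_of_subsingleton _

/-- The augmentation. -/
noncomputable def aug (M : ModuleCat.{u} A) : M ⟶ ((cxFun fs.get).obj M).X (Int.ofNat 0) :=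
  ModuleCat.ofHom (LinearMap.pi fun J => LocalizedModule.mkLinearMap (S fs.get J) M :
    (M : Type u) →ₗ[A] (sys fs.get M).CQ 0)

theorem aug_natural {M N : ModuleCat.{u} A} (g : M ⟶ N) :
    aug fs M ≫ ((cxFun fs.get).map g).f (Int.ofNat 0) = g ≫ aug fs N :=
  ModuleCat.hom_ext (LinearMap.ext fun (x : M) => funext fun J => qmap_mk_one g.hom 0 J x)

theorem prodF_zero {r : ℕ} (f : Fin r → A) (J : Fin 0 → Fin r) : prodF f J = 1 := by
  simp [prodF, img]

theorem aug_bijective (M : ModuleCat.{u} A) : Function.Bijective (aug fs M).hom := by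
  have hb : ∀ J : Fin 0 → Fin fs.length,
      Function.Bijective (LocalizedModule.mkLinearMap (S fs.get J) M) := by
    intro J
    refine ⟨fun x y h => ?_, fun y => ?_⟩
    · obtain ⟨⟨u, k, hk⟩, hu⟩ := LocalizedModule.mk_eq.1 h
      have : u = 1 := by rw [← hk]; show prodF fs.get J ^ k = 1; rw [prodF_zero, one_pow]
      simpa [Submonoid.smul_def, this] using hu
    · obtain ⟨n, x, hx⟩ := (sys fs.get M).surj J y
      refine ⟨x, Eq.trans ?_ hx⟩
      have := smul_ψ fs.get M n J x
      rw [prodF_zero, one_pow, one_smul] at this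
      exact this.symm
  refine ⟨fun x y h => (hb (fun a => a.elim0)).1 (congrFun h _), fun (c : (sys fs.get M).CQ 0) => ?_⟩
  obtain ⟨x, hx⟩ := (hb (fun a => a.elim0)).2 (c _)
  refine ⟨x, funext fun J => ?_⟩
  obtain rfl : J = fun a => a.elim0 := funext fun a => a.elim0
  exact hx

theorem d_aug_eq_zero_iff (I : Ideal A) (hI : Ideal.span {a | a ∈ fs} = I) (M : ModuleCat.{u} A)
    (x : M) : (((cxFun fs.get).obj M).d (Int.ofNat 0) (Int.ofNat 1)).hom ((aug fs M).hom x) = 0 ↔
      x ∈ DRing.torsionSub I M := by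
  have key : ∀ J : Fin 1 → Fin fs.length, (sys fs.get M).dQ 0 ((aug fs M).hom x) J =
      LocalizedModule.mk x 1 := fun J => by
    show (sys fs.get M).dQ 0 (fun J' => LocalizedModule.mk x 1) J = _
    rw [LimSys.dQ_apply, Fin.sum_univ_one]
    simp only [Fin.val_zero, pow_zero, one_smul]
    exact rs_mk_one fs.get M J 0 x
  have key' : ∀ J : Fin 1 → Fin fs.length, LocalizedModule.mk x (1 : S fs.get J) = 0 ↔
      ∃ n, fs.get (J 0) ^ n • x = 0 := by
    intro J
    have hp : prodF fs.get J = fs.get (J 0) := by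
      rw [show J = fun _ => J 0 from funext fun a => by rw [Subsingleton.elim a 0]]
      simp [prodF, img_const]
    rw [← LocalizedModule.zero_mk (S := S fs.get J) 1, LocalizedModule.mk_eq]
    constructor
    · rintro ⟨⟨u, n, rfl⟩, hu⟩
      exact ⟨n, by simpa [Submonoid.smul_def, hp] using hu⟩
    · rintro ⟨n, hn⟩
      exact ⟨el fs.get n J, by simpa [Submonoid.smul_def, hp] using hn⟩
  rw [d_nat fs.get M 0]
  change (sys fs.get M).dQ 0 ((aug fs M).hom x) = 0 ↔ _
  constructor
  · intro h
    choose n hn using fun i : Fin fs.length =>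
      (key' fun _ => i).1 ((key fun _ => i).symm.trans (congrFun h _))
    have hle : I ≤ (Submodule.span A {x}).annihilator.radical := by
      rw [← hI, Ideal.span_le]
      intro a ha
      obtain ⟨i, rfl⟩ := List.get_of_mem ha
      exact ⟨n i, (Submodule.mem_annihilator_span_singleton _ _).2 (hn i)⟩
    obtain ⟨m, hm⟩ := Ideal.exists_pow_le_of_le_radical_of_fg hle
      (hI ▸ Submodule.fg_span (List.finite_toSet fs))
    exact ⟨m, fun a ha => (Submodule.mem_annihilator_span_singleton _ _).1 (hm ha)⟩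
  · rintro ⟨n, hn⟩
    funext J
    refine (key J).trans ((key' J).2 ⟨n, hn _ (Ideal.pow_mem_pow ?_ n)⟩)
    rw [← hI]
    exact Ideal.subset_span (List.get_mem fs _)

variable (I : Ideal A) (hI : Ideal.span {a | a ∈ fs} = I)

/-- Torsion elements as cocycles. -/
noncomputable def toCyc (M : ModuleCat.{u} A) :
    (DRing.gammaI I).obj M ⟶ ((cxFun fs.get).obj M).cycles (Int.ofNat 0) :=
  ((cxFun fs.get).obj M).liftCycles ((DRing.gammaIι I).app M ≫ aug fs M) (Int.ofNat 1)
    (CochainComplex.next _ _)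
    (ModuleCat.hom_ext (LinearMap.ext fun x => (d_aug_eq_zero_iff fs I hI M x.1).2 x.2))

theorem toCyc_i (M : ModuleCat.{u} A) :
    toCyc fs I hI M ≫ ((cxFun fs.get).obj M).iCycles _ = (DRing.gammaIι I).app M ≫ aug fs M :=
  HomologicalComplex.liftCycles_i _ _ _ _ _

theorem isIso_toCyc (M : ModuleCat.{u} A) : IsIso (toCyc fs I hI M) := by
  have hi : Function.Injective (((cxFun fs.get).obj M).iCycles (Int.ofNat 0)).hom :=
    (ModuleCat.mono_iff_injective _).1 inferInstance
  refine (ConcreteCategory.isIso_iff_bijective _).2 ⟨fun x y h => ?_, fun z => ?_⟩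
  · refine Subtype.ext ((aug_bijective fs M).1 ?_)
    exact ((ConcreteCategory.congr_hom (toCyc_i fs I hI M) x).symm.trans (congrArg (fun t => (((cxFun fs.get).obj M).iCycles (Int.ofNat 0)).hom t) h)).trans
      (ConcreteCategory.congr_hom (toCyc_i fs I hI M) y)
  · obtain ⟨x, hx⟩ := (aug_bijective fs M).2 ((((cxFun fs.get).obj M).iCycles (Int.ofNat 0)).hom z)
    have hd : (((cxFun fs.get).obj M).d (Int.ofNat 0) (Int.ofNat 1)).hom ((aug fs M).hom x) = 0 := by
      rw [hx]
      exact ConcreteCategory.congr_hom (((cxFun fs.get).obj M).iCycles_d (Int.ofNat 0) (Int.ofNat 1)) z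
    exact ⟨⟨x, (d_aug_eq_zero_iff fs I hI M x).1 hd⟩,
      hi ((ConcreteCategory.congr_hom (toCyc_i fs I hI M) _).trans hx)⟩

theorem d_neg (M : ModuleCat.{u} A) :
    ((cxFun fs.get).obj M).d (Int.negSucc 0) (Int.ofNat 0) = 0 :=
  (CochainComplex.of_d (X fs.get M) (dX fs.get M) (Int.negSucc 0)).trans rfl

/-- Degree zero. -/
noncomputable def zeroIso : DRing.gammaI I ≅ (delta fs.get).F 0 :=
  NatIso.ofComponents
    (fun M =>
      haveI := isIso_toCyc fs I hI M
      asIso (toCyc fs I hI M) ≪≫ ((cxFun fs.get).obj M).isoHomologyπ (Int.negSucc 0) (Int.ofNat 0)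
        (CochainComplex.prev _ _) (d_neg fs M))
    (fun {M N} g => by
      change (DRing.gammaI I).map g ≫ toCyc fs I hI N ≫ ((cxFun fs.get).obj N).homologyπ (Int.ofNat 0) =
        (toCyc fs I hI M ≫ ((cxFun fs.get).obj M).homologyπ (Int.ofNat 0)) ≫
          HomologicalComplex.homologyMap ((cxFun fs.get).map g) (Int.ofNat 0)
      rw [Category.assoc, HomologicalComplex.homologyπ_naturality, ← Category.assoc, ← Category.assoc]
      congr 1
      rw [← cancel_mono (((cxFun fs.get).obj N).iCycles (Int.ofNat 0)), Category.assoc, Category.assoc,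
        HomologicalComplex.cyclesMap_i, toCyc_i, reassoc_of% (toCyc_i fs I hI M), aug_natural]
      rfl)

/-- The comparison. -/
theorem nonempty_H_equiv [IsNoetherianRing A] (hI : Ideal.span {a | a ∈ fs} = I) (M : Type u)
    [AddCommGroup M] [Module A M] (i : ℕ) :
    Nonempty (LocCoh.H I i M ≃ₗ[A] CohIII.koszulHLim fs (ModuleCat.of A M) i) := by
  let e : (LocCohLib.lcDelta I).F i ≅ (delta fs.get).F i :=
    LocCohLib.DeltaFun.isoOfZero (LocCohLib.lcDelta_effaceable I) (effaceable fs)
      (LocCohLib.lcZeroIso I ≪≫ zeroIso fs I hI) i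
  let h : LocCoh.H I i M ≃ₗ[A] (((cxFun fs.get).obj (ModuleCat.of A M)).homology (i : ℤ) : Type u) :=
    (e.app (ModuleCat.of A M)).toLinearEquiv
  exact ⟨(h.trans (homEquiv fs.get (ModuleCat.of A M) i)).trans (limEquiv fs (ModuleCat.of A M) i).symm⟩

end KoszLcLib
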