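import Groth.Agent.KoszLcLib.Compare
import Groth.Agent.KoszLib.Spec
import Groth.Agent.CohBCLib.NatCech
import Groth.Prelude.Def_Coh

/-! The Koszul description of cohomology respects the scalars. -/

set_option autoImplicit false
universe u

open CategoryTheory CategoryTheory.Limits TopologicalSpace Opposite AlgebraicGeometry

namespace KoszLcLib

open KoszLib

section LimEquiv

variable {A : Type u} [CommRing A] (fs : List A) (M : ModuleCat.{u} A)
  {Q' : ∀ p, (Fin p → Fin fs.length) → Type u} [∀ p J, AddCommGroup (Q' p J)] [∀ p J, Module A (Q' p J)]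

/-- Colimits of Koszul cohomology through any localised family, linearly. -/
noncomputable def sysEquiv (S : LimSys fs.get M Q') (p : ℕ) :
    CohIII.koszulHLim fs M p ≃ₗ[A] S.HQ p :=
  (Module.DirectLimit.congr (fun n => (powEquiv M n fs p).symm) fun n m h => by
      refine LinearMap.ext fun y => ?_
      obtain ⟨y, rfl⟩ := (powEquiv M n fs p).surjective y
      refine ((congr_arg (powEquiv M m fs p).symm (powEquiv_trH M h fs p y).symm).trans
        ((powEquiv M m fs p).symm_apply_apply _)).trans ?_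
      exact congr_arg _ ((powEquiv M n fs p).symm_apply_apply y).symm).trans
    (LinearEquiv.ofBijective (S.toHQ p) (S.toHQ_bijective p))

end LimEquiv

variable {X : Scheme.{u}} [CompactSpace X] [QuasiSeparatedSpace X]
variable {r : ℕ} (g : Fin r → Γ(X, ⊤)) (F : X.Modules) [Coh.IsQCoh F]

omit [CompactSpace X] [QuasiSeparatedSpace X] [Coh.IsQCoh F] in
theorem smulAb_sec (a : Γ(X, ⊤)) {p : ℕ} (J : Fin p → Fin r) (x : Sec F (capT g J)) :
    (Coh.smulAb F a).hom.app (op (capT g J)) x = a • x := rfl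

theorem eCech_map (a : Γ(X, ⊤)) (q : ℕ) (c : (CechLib.cx (Uf g) F.presheaf).X q) :
    eCech g F q (((cechComplexFunctor (Uf g)).map (Coh.smulAb F a).hom).f q c) = a • eCech g F q c := by
  funext J
  exact (CechLib.cochainEquiv_map (Uf g) (Coh.smulAb F a).hom q c (ULift.up ∘ J)).trans rfl

theorem toCechH_smul (a : Γ(X, ⊤)) (q : ℕ) (c : (sheafSys F g).ZQ (q + 2)) :
    toCechH g F q (a • c) =
      HomologicalComplex.homologyMap ((cechComplexFunctor (Uf g)).map (Coh.smulAb F a).hom) (q + 1)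
        (toCechH g F q c) := by
  refine Eq.trans ?_ (ConcreteCategory.congr_hom (HomologicalComplex.homologyπ_naturality
    ((cechComplexFunctor (Uf g)).map (Coh.smulAb F a).hom) (q + 1)) (toCech g F q c)).symm
  refine congrArg ((CechLib.cx (Uf g) F.presheaf).homologyπ (q + 1)).hom ?_
  refine cech_iCycles_injective g F (q + 1) ((eCech g F (q + 1)).injective ?_)
  refine (iCycles_toCech g F q (a • c)).trans ?_
  refine Eq.trans ?_ (congrArg (eCech g F (q + 1)) (ConcreteCategory.congr_hom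
    (HomologicalComplex.cyclesMap_i ((cechComplexFunctor (Uf g)).map (Coh.smulAb F a).hom) (q + 1))
    (toCech g F q c))).symm
  refine Eq.trans ?_ (eCech_map g F a (q + 1) _).symm
  exact congrArg (fun t => a • t) (iCycles_toCech g F q c).symm

theorem cechEquiv_symm_mk (q : ℕ) (c : (sheafSys F g).ZQ (q + 2)) :
    (cechEquiv g F q).symm (Submodule.Quotient.mk c) = toCechH g F q c := rfl

theorem cechEquiv_map (a : Γ(X, ⊤)) (q : ℕ) (y : (CechLib.cx (Uf g) F.presheaf).homology (q + 1)) :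
    cechEquiv g F q
      (HomologicalComplex.homologyMap ((cechComplexFunctor (Uf g)).map (Coh.smulAb F a).hom) (q + 1) y) =
      a • cechEquiv g F q y := by
  obtain ⟨z, rfl⟩ := (cechEquiv g F q).symm.surjective y
  obtain ⟨c, rfl⟩ := Submodule.Quotient.mk_surjective _ z
  rw [AddEquiv.apply_symm_apply, cechEquiv_symm_mk, ← toCechH_smul, ← cechEquiv_symm_mk,
    AddEquiv.apply_symm_apply]
  rfl

/-- `⊤` for a family covering everything. -/
noncomputable def topEquivHU {ι : Type u} (U : ι → X.Opens) (hU : ⨆ i, U i = ⊤) (T : QCohLib.AbSh X)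
    (p : ℕ) : QCohLib.HU T p (⨆ i, U i) ≃+ QCohLib.HU T p ⊤ :=
  hU ▸ AddEquiv.refl _

omit [CompactSpace X] [QuasiSeparatedSpace X] in
theorem topEquivHU_comp {ι : Type u} (U : ι → X.Opens) (hU : ⨆ i, U i = ⊤) {T T' : QCohLib.AbSh X}
    (φ : T ⟶ T') (p : ℕ) (x : QCohLib.HU T p (⨆ i, U i)) :
    topEquivHU U hU T' p (Abelian.Ext.comp x (Abelian.Ext.mk₀ φ) (add_zero p)) =
      Abelian.Ext.comp (topEquivHU U hU T p x) (Abelian.Ext.mk₀ φ) (add_zero p) := by
  have key : ∀ (W : X.Opens) (h : (⨆ i, U i) = W) (y : QCohLib.HU T p (⨆ i, U i)),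
      (h ▸ AddEquiv.refl _ : QCohLib.HU T' p (⨆ i, U i) ≃+ QCohLib.HU T' p W)
          (Abelian.Ext.comp y (Abelian.Ext.mk₀ φ) (add_zero p)) =
        Abelian.Ext.comp ((h ▸ AddEquiv.refl _ : QCohLib.HU T p (⨆ i, U i) ≃+ QCohLib.HU T p W) y)
          (Abelian.Ext.mk₀ φ) (add_zero p) := by
    rintro W rfl y
    rfl
  exact key ⊤ hU x

variable (haff : ∀ i : Fin r, IsAffineOpen (X.basicOpen (g i))) (hcov : ⨆ i, Uf g i = ⊤)

/-- Cohomology as the cohomology of the localised family. -/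
noncomputable def hhEquiv (q : ℕ) : Coh.HH X F (q + 1) ≃+ (sheafSys F g).HQ (q + 2) :=
  (((QCohLib.hEquiv (Coh.toAb F) (q + 1)).trans (topEquivHU (Uf g) hcov (Coh.toAb F) (q + 1)).symm).trans
    (CohBCLib.cechCmp (Uf g) (q + 1) (Coh.toAb F) (acyc g F haff)).symm).trans (cechEquiv g F q)

theorem hhEquiv_smul (q : ℕ) (a : Γ(X, ⊤)) (x : Coh.HH X F (q + 1)) :
    hhEquiv g F haff hcov q (Sheaf.H.map (Coh.smulAb F a) (q + 1) x) = a • hhEquiv g F haff hcov q x := by
  obtain ⟨y, rfl⟩ := (QCohLib.hEquiv (Coh.toAb F) (q + 1)).symm.surjective x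
  obtain ⟨z, rfl⟩ := (topEquivHU (Uf g) hcov (Coh.toAb F) (q + 1)).surjective y
  obtain ⟨w, rfl⟩ := (CohBCLib.cechCmp (Uf g) (q + 1) (Coh.toAb F) (acyc g F haff)).surjective z
  set H := QCohLib.hEquiv (Coh.toAb F) (q + 1)
  set T := topEquivHU (Uf g) hcov (Coh.toAb F) (q + 1)
  set C := CohBCLib.cechCmp (Uf g) (q + 1) (Coh.toAb F) (acyc g F haff)
  have h1 : H (Sheaf.H.map (Coh.smulAb F a) (q + 1) (H.symm (T (C w)))) =
      T (C (HomologicalComplex.homologyMap
        ((cechComplexFunctor (Uf g)).map (Coh.smulAb F a).hom) (q + 1) w)) := by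
    refine (QCohLib.hEquiv_map (Coh.smulAb F a) (q + 1) _).trans ?_
    refine (congrArg (fun t => Abelian.Ext.comp t (Abelian.Ext.mk₀ (Coh.smulAb F a)) (add_zero (q + 1)))
      (H.apply_symm_apply (T (C w)))).trans ?_
    refine (topEquivHU_comp (Uf g) hcov (Coh.smulAb F a) (q + 1) (C w)).symm.trans ?_
    exact congrArg T (CohBCLib.cechCmp_natural (Uf g) (q + 1) (Coh.toAb F) (Coh.toAb F)
      (acyc g F haff) (acyc g F haff) (Coh.smulAb F a) w).symm
  have h2 : ∀ v, hhEquiv g F haff hcov q (H.symm (T (C v))) = cechEquiv g F q v := fun v => by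
    show cechEquiv g F q (C.symm (T.symm (H (H.symm (T (C v)))))) = cechEquiv g F q v
    exact congrArg (cechEquiv g F q) ((congrArg C.symm ((congrArg T.symm (H.apply_symm_apply _)).trans
      (T.symm_apply_apply _))).trans (C.symm_apply_apply v))
  have h3 := h2 (HomologicalComplex.homologyMap
    ((cechComplexFunctor (Uf g)).map (Coh.smulAb F a).hom) (q + 1) w)
  rw [← h1] at h3
  refine ((congrArg (hhEquiv g F haff hcov q) (H.symm_apply_apply _).symm).trans h3).trans ?_
  exact (cechEquiv_map g F a q w).trans (congrArg (fun t => a • t) (h2 w).symm)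

/-- Cohomology of a scheme as a colimit of Koszul cohomology of its sections, linearly. -/
theorem exists_linearEquiv {A : Type u} [CommRing A] (σ : A →+* Γ(X, ⊤)) (fs : List A)
    (haff : ∀ i : Fin fs.length, IsAffineOpen (X.basicOpen (σ (fs.get i))))
    (hcov : ⨆ i, Uf (fun i => σ (fs.get i)) i = ⊤) (q : ℕ) :
    ∃ e : Coh.HH X F (q + 1) ≃+ CohIII.koszulHLim fs (ModuleCat.of A (Res σ Γ(F, ⊤))) (q + 2),
      ∀ (a : A) (x : Coh.HH X F (q + 1)),
        e (Sheaf.H.map (Coh.smulAb F (σ a)) (q + 1) x) = a • e x := by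
  let g : Fin fs.length → Γ(X, ⊤) := fun i => σ (fs.get i)
  let e₀ : Res σ Γ(F, ⊤) ≃+ Γ(F, ⊤) := AddEquiv.refl _
  have he₀ : ∀ (a : A) (x : Res σ Γ(F, ⊤)), e₀ (a • x) = σ a • e₀ x := fun a x => rfl
  let S := comap σ e₀ he₀ (f := fs.get) (g := g) (fun _ => rfl) (sheafSys F g)
  let c : S.HQ (q + 2) ≃+ (sheafSys F g).HQ (q + 2) :=
    comapHQ σ e₀ he₀ (f := fs.get) (g := g) (fun _ => rfl) (sheafSys F g) (q + 2)
  have hc : ∀ (a : A) (z : S.HQ (q + 2)), c (a • z) = σ a • c z := fun a z => by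
    obtain ⟨z, rfl⟩ := Submodule.Quotient.mk_surjective _ z
    rfl
  let l : CohIII.koszulHLim fs (ModuleCat.of A (Res σ Γ(F, ⊤))) (q + 2) ≃ₗ[A] S.HQ (q + 2) :=
    sysEquiv fs (ModuleCat.of A (Res σ Γ(F, ⊤))) S (q + 2)
  refine ⟨((hhEquiv g F haff hcov q).trans c.symm).trans l.symm.toAddEquiv, fun a x => ?_⟩
  show l.symm (c.symm (hhEquiv g F haff hcov q (Sheaf.H.map (Coh.smulAb F (σ a)) (q + 1) x))) =
    a • l.symm (c.symm (hhEquiv g F haff hcov q x))
  rw [hhEquiv_smul]; refine Eq.trans ?_ (map_smul l.symm a _)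
  refine congrArg _ (c.injective ?_)
  rw [hc, AddEquiv.apply_symm_apply, AddEquiv.apply_symm_apply]

end KoszLcLib
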