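import Groth.Agent.KoszLcLib.Compare
import Groth.Agent.KoszLib.Spec
import Groth.Prelude.Def_Coh
import Groth.Prelude.Def_Wider

/-! Cohomology of a punctured spectrum as local cohomology. -/

set_option autoImplicit false
universe u

open CategoryTheory AlgebraicGeometry

namespace KoszLcLib

open KoszLib

theorem nonempty_HH_equiv (A : Type u) [CommRing A] (fs : List A) (M : Type u) [AddCommGroup M]
    [Module A M] (q : ℕ) (hq : 1 ≤ q) :
    Nonempty (Coh.HH (↑(LocCoh.puncturedOpen A (Ideal.span {a | a ∈ fs})))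
      ((AlgebraicGeometry.tilde (R := CommRingCat.of A) (ModuleCat.of A M)).restrict
        (LocCoh.puncturedOpen A (Ideal.span {a | a ∈ fs})).ι) q ≃+
      CohIII.koszulHLim fs (ModuleCat.of A M) (q + 1)) := by
  obtain ⟨e2⟩ := nonempty_HU_HQ (gΓ A fs)
    (AlgebraicGeometry.tilde (R := CommRingCat.of A) (ModuleCat.of A M))
    (fun i => (isAffineOpen_top _).basicOpen _) q hq
  obtain ⟨e3⟩ := QCohLib.nonempty_HU_restrict
    (LocCoh.puncturedOpen A (Ideal.span {a | a ∈ fs})).ι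
    (AlgebraicGeometry.tilde (R := CommRingCat.of A) (ModuleCat.of A M)) q ⊤
  have hU : (LocCoh.puncturedOpen A (Ideal.span {a | a ∈ fs})).ι ''ᵁ ⊤ = ⨆ i, Uf (gΓ A fs) i :=
    (Scheme.Opens.ι_image_top _).trans (puncturedOpen_eq A fs)
  rw [hU] at e3
  exact ⟨(((QCohLib.hEquiv _ q).trans e3).trans e2).trans (tildeLimEquiv A M fs (q + 1)).symm⟩

theorem nonempty_HH_equiv_H (A : Type u) [CommRing A] [IsNoetherianRing A] (I : Ideal A) (M : Type u)
    [AddCommGroup M] [Module A M] (q : ℕ) (hq : 1 ≤ q) :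
    Nonempty (Coh.HH (↑(LocCoh.puncturedOpen A I))
      ((AlgebraicGeometry.tilde (R := CommRingCat.of A) (ModuleCat.of A M)).restrict
        (LocCoh.puncturedOpen A I).ι) q ≃+ LocCoh.H I (q + 1) M) := by
  obtain ⟨fs, rfl⟩ := LocCohLib.exists_list_span I
  obtain ⟨e⟩ := nonempty_HH_equiv A fs M q hq
  obtain ⟨e'⟩ := nonempty_H_equiv fs (Ideal.span {x | x ∈ fs}) rfl M (q + 1)
  exact ⟨e.trans e'.symm.toAddEquiv⟩

end KoszLcLib
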